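import Mathlib
import Cfsg.Agent.H776.P4.Stmts

/-!
# S5210, `q = 3`: the action on `Q/Z` (helper575)

* `Act γ f` : `γ` acts on the coordinates `(r, b)` as `f`; `AcC κ γ f` : the same after the shift `ε_κ`;
* `mem_of_trivial` : automorphisms of `Q` trivial on `Q/Z` are inner (`|K| = 9`);
* `xAut` : the automorphism `x`.
-/

set_option autoImplicit false
set_option linter.unusedSectionVars false

namespace Cfsg.Agent.H575.P4

open Cfsg Cfsg.FusionSystem Cfsg.Agent.H776.P4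
open Cfsg.Agent.H756.PU (HypK NormAut TIAut)

universe u

variable {K : Type u} [Field K] [StarRing K]

/-- the action on the coordinates `(r, b)` -/
def Act (γ : MulAut (PQ K)) (f : K × K → K × K) : Prop :=
  ∀ e : PQ K, (((γ e : PQ K) : PG K).r, ((γ e : PQ K) : PG K).b) = f ((e : PG K).r, (e : PG K).b)

/-- `ε_κ` on `(r, b)` -/
def fE (κ : K) (p : K × K) : K × K := (p.1, p.2 + κ * star p.1)

/-- the Weyl element on `(r, b)` -/
def fW (p : K × K) : K × K := (p.2, - p.1)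

/-- `x` on `(r, b)` -/
def fX (p : K × K) : K × K := (p.1, p.2 - p.1)

theorem fE_fE (κ μ : K) (p : K × K) : fE κ (fE μ p) = fE (κ + μ) p := by
  ext
  · rfl
  · simp only [fE]; ring

theorem fE_zero (p : K × K) : fE (0 : K) p = p := by
  ext
  · rfl
  · simp [fE]

theorem fE_neg (κ : K) (p : K × K) : fE κ (fE (-κ) p) = p := by
  rw [fE_fE, add_neg_cancel, fE_zero]

theorem fE_neg' (κ : K) (p : K × K) : fE (-κ) (fE κ p) = p := by
  rw [fE_fE, neg_add_cancel, fE_zero]

theorem fE_fX (κ : K) (p : K × K) : fE κ (fX p) = fX (fE κ p) := by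
  ext
  · rfl
  · simp only [fE, fX]; ring

theorem Act.mul {γ δ : MulAut (PQ K)} {f g : K × K → K × K} (h : Act γ f) (k : Act δ g) :
    Act (γ * δ) (f ∘ g) := by
  intro e
  rw [MulAut.mul_apply, h, k]
  rfl

theorem Act.inv {γ : MulAut (PQ K)} {f g : K × K → K × K} (h : Act γ f) (hgf : ∀ p, g (f p) = p) :
    Act γ⁻¹ g := by
  intro e
  obtain ⟨e', rfl⟩ : ∃ e', γ e' = e := ⟨γ⁻¹ e, MulAut.apply_inv_self _ _ _⟩
  rw [MulAut.inv_apply_self, h, hgf]

/-- the action after the shift -/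
def AcC (κ : K) (γ : MulAut (PQ K)) (f : K × K → K × K) : Prop :=
  Act γ (fun p => fE κ (f (fE (-κ) p)))

theorem AcC.mul {κ : K} {γ δ : MulAut (PQ K)} {f g : K × K → K × K} (h : AcC κ γ f) (k : AcC κ δ g) :
    AcC κ (γ * δ) (f ∘ g) := by
  intro e
  have := Act.mul h k e
  rw [this]
  simp only [Function.comp_apply, fE_neg']

theorem AcC.inv {κ : K} {γ : MulAut (PQ K)} {f g : K × K → K × K} (h : AcC κ γ f) (hgf : ∀ p, g (f p) = p) :
    AcC κ γ⁻¹ g := by
  refine Act.inv h ?_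
  intro p
  simp only [fE_neg', hgf, fE_neg]

theorem AcC.of_fX {κ : K} {γ : MulAut (PQ K)} (h : Act γ fX) : AcC κ γ fX := by
  intro e
  rw [h]
  change _ = fE κ (fX (fE (-κ) _))
  rw [fE_fX, fE_neg]

theorem AcC.congr {κ : K} {γ : MulAut (PQ K)} {f g : K × K → K × K} (h : AcC κ γ f) (hfg : ∀ p, f p = g p) :
    AcC κ γ g := by
  intro e
  rw [h]
  simp only [hfg]

theorem act_ep {κ : K} {ε : MulAut (PG K)} {t : MulAut (PQ K)} (hε : IsEp κ ε) (ht : IsRP ε t) : Act t (fE κ) := by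
  intro e
  rw [ht, hε.r, hε.b]
  rfl

theorem act_wq {n : MulAut (PQ K)} (hn : IsWQ n) : Act n fW := by
  intro e
  rw [hn.r, hn.b]
  rfl

theorem act_wk {κ : K} {γ : MulAut (PQ K)} (h : IsWk κ γ) : AcC κ γ fW := by
  obtain ⟨ε, n, t, hε, hn, ht, rfl⟩ := h
  have h1 := act_ep hε ht
  exact ((h1.mul (act_wq hn)).mul (h1.inv (g := fE (-κ)) (fE_neg' κ)))

theorem act_wk_add {κ v : K} {γ : MulAut (PQ K)} (h : IsWk (κ + v) γ) :
    AcC κ γ (fun p => fE v (fW (fE (-v) p))) := by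
  intro e
  rw [act_wk h]
  change fE (κ + v) (fW (fE (-(κ + v)) _)) = fE κ (fE v (fW (fE (-v) (fE (-κ) _))))
  rw [fE_fE, fE_fE, neg_add_rev]

/-- conjugation by the elements of `PG K` -/
instance pq_normal : (PQ K).Normal := by
  refine ⟨fun n hn g => ?_⟩
  have hn' : n.c = 0 := hn
  change (g * n * g⁻¹).c = 0
  simp [hn']

/-- the automorphism of `Q` induced by an element of `PG K` -/
def cjQ (g : PG K) : MulAut (PQ K) := MulAut.conjNormal g

theorem cjQ_coe (g : PG K) (e : PQ K) : ((cjQ g e : PQ K) : PG K) = g * e * g⁻¹ := MulAut.conjNormal_apply g e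

theorem cjQ_mem (g : PG K) : cjQ g ∈ autInducedBy (⊤ : Subgroup (PG K)) (PQ K) :=
  Subgroup.subset_closure ⟨g, Subgroup.mem_top g, cjQ_coe g⟩

/-- the element `(0; 0, 0, 1)` -/
def gx : PG K where
  r := 0
  a := 0
  b := 0
  c := 1
  ha := star_zero K
  hc := star_one K

/-- the automorphism `x` -/
def xAut : MulAut (PQ K) := cjQ gx

theorem act_x : Act (xAut : MulAut (PQ K)) fX := by
  intro e
  have he : (e : PG K).c = 0 := e.2
  unfold xAut
  rw [cjQ_coe]
  ext
  · simp [fX, gx]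
  · simp [fX, gx, PG.mul_b, PG.inv_b, he]
    ring

end Cfsg.Agent.H575.P4
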