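import Cfsg.Agent.H575.P4.Triv

/-!
# S5210, `q = 3`: the statement (3C) (helper575)

`stThreeC : StGrp → StThreeC`.
-/

set_option autoImplicit false
set_option linter.unusedSectionVars false

namespace Cfsg.Agent.H575.P4

open Cfsg Cfsg.FusionSystem Cfsg.Agent.H776.P4
open Cfsg.Agent.H756.PU (HypK NormAut TIAut)

universe u

variable {K : Type u} [Field K] [StarRing K]

/-- inverse of `fX` -/
def fXi (p : K × K) : K × K := (p.1, p.2 + p.1)

theorem fXi_fX (p : K × K) : fXi (fX p) = p := by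
  ext
  · rfl
  · simp only [fXi, fX]; ring

theorem fX_fXi (p : K × K) : fX (fXi p) = p := by
  ext
  · rfl
  · simp only [fXi, fX]; ring

/-- conjugation by `ε_v` of the Weyl element -/
def fV (v : K) (p : K × K) : K × K := fE v (fW (fE (-v) p))

/-- the reflection, square direction -/
def fR1 (v : K) (p : K × K) : K × K := (v * star p.1, v * star p.2 - v * star p.1)

/-- the reflection, non-square direction -/
def fR2 (v : K) (p : K × K) : K × K := (- (v * star p.1), p.1 + v * star p.2)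

theorem word1 {v : K} (h3 : (3 : K) = 0) (hv : v * star v = 1) (p : K × K) :
    (fW ∘ fX ∘ fV v ∘ fXi ∘ fW ∘ fX ∘ fV v) p = fR1 v p := by
  obtain ⟨r, b⟩ := p
  ext
  · simp only [Function.comp_apply, fW, fX, fV, fE, fXi, fR1, star_add, star_sub, star_mul', star_star, star_neg]
    linear_combination (3 * b + 7 * r - v * star b - 3 * v * star r + v * star v * r) * hv +
      (2 * b + 3 * r - 2 * v * star b - 3 * v * star r) * h3
  · simp only [Function.comp_apply, fW, fX, fV, fE, fXi, fR1, star_add, star_sub, star_mul', star_star, star_neg]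
    linear_combination (b + 2 * r - v * star r) * hv + (b + r - v * star b - v * star r) * h3

theorem word2 {v : K} (hv : v * star v = -1) (p : K × K) :
    (fW ∘ fV v ∘ fW) p = fR2 v p := by
  obtain ⟨r, b⟩ := p
  ext
  · simp only [Function.comp_apply, fW, fV, fE, fR2, star_add, star_mul', star_star, star_neg]
    linear_combination - b * hv
  · simp only [Function.comp_apply, fW, fV, fE, fR2, star_add, star_mul', star_star, star_neg]
    ring

/-- inverse of `fR1` -/
def fR1i (v : K) (p : K × K) : K × K := (v * star p.1, v * star p.2 + v * star p.1)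

theorem fR1i_fR1 {v : K} (hv : v * star v = 1) (p : K × K) : fR1i v (fR1 v p) = p := by
  obtain ⟨r, b⟩ := p
  ext
  · simp only [fR1, fR1i, star_mul', star_star]
    linear_combination r * hv
  · simp only [fR1, fR1i, star_mul', star_star, star_sub]
    linear_combination b * hv

/-- inverse of `fR2` -/
def fR2i (v : K) (p : K × K) : K × K := (v * star p.1, - (v * star p.2) - p.1)

theorem fR2i_fR2 {v : K} (hv : v * star v = -1) (p : K × K) : fR2i v (fR2 v p) = p := by
  obtain ⟨r, b⟩ := p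
  ext
  · simp only [fR2, fR2i, star_mul', star_star, star_neg]
    linear_combination - r * hv
  · simp only [fR2, fR2i, star_mul', star_star, star_add, star_neg]
    linear_combination - b * hv

theorem fR1_fX (v : K) (p : K × K) : (fR1 v ∘ fX) p = (fX ∘ fR1 v) p := by
  obtain ⟨r, b⟩ := p
  ext
  · rfl
  · simp only [fR1, fX, star_sub, Function.comp_apply]
    ring

theorem fR2_fX (v : K) (p : K × K) : (fR2 v ∘ fX) p = (fXi ∘ fR2 v) p := by
  obtain ⟨r, b⟩ := p
  ext
  · rfl
  · simp only [fR2, fX, fXi, star_sub, Function.comp_apply]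
    ring

theorem xAut_mem : (xAut : MulAut (PQ K)) ∈ autInducedBy (⊤ : Subgroup (PG K)) (PQ K) := cjQ_mem _

/-- an element normalizing `x` modulo inner automorphisms -/
theorem normAut_of_conj {p n : ℕ} (hK : HypK K p n) (h : p ^ n = 3) {Γ : Subgroup (MulAut (PQ K))}
    (hti : TIAut (⊤ : Subgroup (PG K)) Γ) {γ : MulAut (PQ K)} (hγ : γ ∈ Γ) {κ : K} {f f' : K × K → K × K}
    (hf : AcC κ γ f) (hff : ∀ p, f' (f p) = p)
    (hc : (∀ p, f (fX p) = fX (f p)) ∨ (∀ p, f (fX p) = fXi (f p))) : NormAut (⊤ : Subgroup (PG K)) γ := by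
  have hx : AcC κ (xAut : MulAut (PQ K)) fX := AcC.of_fX act_x
  have hxi : AcC κ (xAut : MulAut (PQ K))⁻¹ fXi := hx.inv fXi_fX
  have hfi : AcC κ γ⁻¹ f' := hf.inv hff
  have hf'f : ∀ p, f (f' p) = p := by
    intro p
    have h1 := (hf.mul hfi)
    rw [mul_inv_cancel] at h1
    have h2 : ∀ e : PQ K, ((e : PG K).r, (e : PG K).b) =
        fE κ (f (f' (fE (-κ) ((e : PG K).r, (e : PG K).b)))) := fun e => h1 e
    set q := fE κ p with hq
    have h3 := h2 ⟨⟨q.1, 0, q.2, 0, star_zero K, star_zero K⟩, rfl⟩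
    have h4 : ((q.1, q.2) : K × K) = q := rfl
    simp only [h4] at h3
    rw [hq, fE_neg'] at h3
    have h5 := congrArg (fE (-κ)) h3
    rw [fE_neg', fE_neg'] at h5
    exact h5.symm
  refine hti γ hγ xAut xAut_mem xAut_not_inn ?_
  have key : ∀ δ : MulAut (PQ K), AcC κ δ id → δ ∈ autInducedBy (⊤ : Subgroup (PG K)) (PQ K) := by
    intro δ hδ
    refine mem_of_trivial hK h ?_
    intro e
    rw [hδ e]
    simp only [id, fE_neg]
  rcases hc with hc | hc
  · have h1 : AcC κ (γ * xAut * γ⁻¹ * xAut⁻¹) id := by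
      refine (((hf.mul hx).mul hfi).mul hxi).congr ?_
      intro p
      simp only [Function.comp_apply, id, hc, hf'f, fX_fXi]
    have h2 := mul_mem (key _ h1) (xAut_mem (K := K))
    rwa [inv_mul_cancel_right] at h2
  · have h1 : AcC κ (γ * xAut * γ⁻¹ * xAut) id := by
      refine (((hf.mul hx).mul hfi).mul hx).congr ?_
      intro p
      simp only [Function.comp_apply, id, hc, hf'f, fXi_fX]
    have h2 := mul_mem (key _ h1) (inv_mem (xAut_mem (K := K)))
    rwa [mul_inv_cancel_right] at h2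

/-- comparison with the element of `D` -/
theorem exists_tor {p n : ℕ} (hG : StGrp.{u}) (hK : HypK K p n) {Γ : Subgroup (MulAut (PQ K))}
    {D : Subgroup (MulAut (PG K))} (hP : ParP p (PQ K) Γ D) {γ : MulAut (PQ K)} (hγ : γ ∈ Γ)
    (hn : NormAut (⊤ : Subgroup (PG K)) γ) {κ : K} {f : K × K → K × K} (hf : AcC κ γ f)
    {s l : K} (hs : s ≠ 0) (h1 : ∀ r b, (f (r, b)).1 = s * star r) (h2 : ∀ b, (f (0, b)).2 = s * l * star b) :
    ∃ d ∈ D, ∃ τ : K ≃+* K, IsTorP d s l τ ∧ ∀ x, τ x = star x := by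
  obtain ⟨x0, d, hd, hxd⟩ := hP.norm γ hγ hn
  obtain ⟨s', l', τ, hτ⟩ := (hG hK).2.2.2.1 d (hP.D_le hd)
  have hr : ∀ r : K, s * star r = s' * τ r := by
    intro r
    have e1 := congrArg Prod.fst (hf (qr r))
    rw [hxd] at e1
    simp only [PG.mul_r, PG.inv_r, hτ.r] at e1
    have e2 : (fE κ (f (fE (-κ) (((qr r : PQ K) : PG K).r, ((qr r : PQ K) : PG K).b)))).1 = s * star r := h1 _ _
    rw [e2] at e1
    change x0.r + s' * τ r + - x0.r = _ at e1
    linear_combination - e1
  have hb : ∀ b : K, s * l * star b = s' * l' * τ b := by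
    intro b
    have e1 := congrArg Prod.snd (hf (qb b))
    rw [hxd] at e1
    have e3 : (fE (-κ) (((qb b : PQ K) : PG K).r, ((qb b : PQ K) : PG K).b)) = (0, b) := by
      ext
      · rfl
      · simp [fE, qb]
    simp only [e3] at e1
    have e2 : (fE κ (f (0, b))).2 = s * l * star b := by
      have : (f (0, b)).1 = 0 := by rw [h1]; simp
      simp only [fE, this, h2, star_zero, mul_zero, add_zero]
    rw [e2] at e1
    have hc : ((d (qb b : PQ K) : PG K)).c = 0 := by rw [hτ.c]; simp [qb]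
    have hr0 : ((d (qb b : PQ K) : PG K)).r = 0 := by rw [hτ.r]; simp [qb]
    simp only [PG.mul_b, PG.inv_b, PG.mul_r, hτ.b, hc, hr0, PG.inv_c] at e1
    change _ = _ at e1
    have e4 : ((qb b : PQ K) : PG K).b = b := rfl
    rw [e4] at e1
    linear_combination - e1
  have hs' : s' = s := by
    have := hr 1
    rw [star_one, map_one, mul_one, mul_one] at this
    exact this.symm
  subst hs'
  have hτs : ∀ x, τ x = star x := fun x => (mul_left_cancel₀ hs (hr x)).symm
  have hl : l' = l := by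
    have := hb 1
    rw [star_one, map_one, mul_one, mul_one] at this
    exact (mul_left_cancel₀ hs this).symm
  subst hl
  exact ⟨d, hd, τ, hτ, hτs⟩

/-- the kernel of the action on the plane is in `D` -/
theorem mem_of_act {p n : ℕ} (hK : HypK K p n) (h : p ^ n = 3) {D : Subgroup (MulAut (PG K))}
    (hT : HasTorP D (fun t => t ^ 2) (fun t => (t * star t)⁻¹)) {α d : MulAut (PG K)} (hd : d ∈ D)
    {s l s' l' : K} {τ τ' : K ≃+* K} (hα : IsTorP α s l τ) (hd' : IsTorP d s' l' τ')
    (hact : ∀ x, actK s l τ x = actK s' l' τ' x) : α ∈ D := by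
  classical
  have hs := hα.ns
  have hl := hα.nl
  have hs' := hd'.ns
  have hl' := hd'.nl
  have hss : star s ≠ 0 := by rwa [Ne, star_eq_zero]
  have hss' : star s' ≠ 0 := by rwa [Ne, star_eq_zero]
  have h1 := hact 1
  simp only [actK, map_one, mul_one] at h1
  have hτ : ∀ x, τ x = τ' x := by
    intro x
    have h2 := hact x
    simp only [actK] at h2
    rw [h1] at h2
    exact mul_left_cancel₀ (mul_ne_zero (mul_ne_zero hl' hs') (inv_ne_zero hss')) h2
  set σ := s * s'⁻¹ with hσ
  set lm := l * l'⁻¹ with hlm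
  have hσ0 : σ ≠ 0 := mul_ne_zero hs (inv_ne_zero hs')
  have hlm0 : lm ≠ 0 := mul_ne_zero hl (inv_ne_zero hl')
  have hsσ : star σ = star s * (star s')⁻¹ := by
    rw [hσ, star_mul', star_inv₀]
  have hslm : star lm = lm := by
    rw [hlm, star_mul', star_inv₀, hα.sl, hd'.sl]
  have hrel : lm * σ = star σ := by
    rw [hsσ, hσ, hlm]
    field_simp
    field_simp at h1
    linear_combination h1
  have hβ : IsTorP (α * d⁻¹) σ lm (RingEquiv.refl K) := by
    have hinv : ∀ g : PG K, d (d⁻¹ g) = g := fun g => MulAut.apply_inv_self _ _ _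
    refine ⟨hσ0, hlm0, hslm, fun _ => rfl, fun g => ?_, fun g => ?_, fun g => ?_, fun g => ?_⟩
    · have e1 := hd'.r (d⁻¹ g)
      rw [hinv] at e1
      rw [MulAut.mul_apply, hα.r, hτ, RingEquiv.refl_apply, e1, hσ]
      field_simp
    · have e1 := hd'.a (d⁻¹ g)
      rw [hinv] at e1
      rw [MulAut.mul_apply, hα.a, hτ, RingEquiv.refl_apply, e1, hsσ, hσ, hlm]
      field_simp
    · have e1 := hd'.b (d⁻¹ g)
      rw [hinv] at e1
      rw [MulAut.mul_apply, hα.b, hτ, RingEquiv.refl_apply, e1, hσ, hlm]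
      field_simp
    · have e1 := hd'.c (d⁻¹ g)
      rw [hinv] at e1
      rw [MulAut.mul_apply, hα.c, hτ, RingEquiv.refl_apply, e1, hlm]
      field_simp
  have hlm2 : lm * lm = 1 := by
    rcases self_cases hK h lm hslm with h0 | h0 | h0
    · exact absurd h0 hlm0
    · rw [h0, one_mul]
    · rw [h0]; ring
  have hσl : lm = σ ^ 2 := by
    rw [star3 hK h] at hrel
    have : σ * (lm - σ ^ 2) = 0 := by linear_combination hrel
    rcases mul_eq_zero.1 this with h0 | h0
    · exact absurd h0 hσ0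
    · exact sub_eq_zero.1 h0
  have hσ4 : σ ^ 4 = 1 := by
    have : σ ^ 4 = lm * lm := by rw [hσl]; ring
    rw [this, hlm2]
  have := hK.fin
  let _ : Fintype K := Fintype.ofFinite K
  have hcard : Fintype.card K = 9 := by
    rw [← Nat.card_eq_fintype_card, hK.card, h]
    norm_num
  have hchar : ringChar K ≠ 2 := by
    have hp := p_eq hK.pp h
    have := hK.char
    rw [ringChar.eq K p, hp]
    norm_num
  have hsq : IsSquare σ := by
    rw [FiniteField.isSquare_iff hchar hσ0, hcard]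
    exact hσ4
  obtain ⟨t, ht⟩ := hsq
  have ht0 : t ≠ 0 := by
    rintro rfl
    exact hσ0 (by rw [ht, mul_zero])
  have ht2 : σ = t ^ 2 := by rw [ht, sq]
  have htt : (t * star t)⁻¹ = lm := by
    have h8 := pow8 hK h t ht0
    rw [star3 hK h, hσl, ht2]
    refine inv_eq_of_mul_eq_one_right ?_
    linear_combination h8
  have hβD : α * d⁻¹ ∈ D := by
    refine hT t ht0 _ ?_
    simp only
    rw [← ht2, htt]
    exact hβ
  have := mul_mem hβD hd
  rwa [inv_mul_cancel_right] at this

/-- **(3C)** the elements of `D` forced by two points `κ`, `κ + v` -/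
theorem stThreeC (hG : StGrp.{u}) : StThreeC.{u} := by
  intro K _ _ p n hK h Γ D hP hT κ hκ v hv0 hκv α s l τ hα hact
  obtain ⟨γ1, hγ1, hw1⟩ := hκ
  obtain ⟨γ2, hγ2, hw2⟩ := hκv
  have h3 := char3 hK h
  have hx : (xAut : MulAut (PQ K)) ∈ Γ := hP.indu xAut_mem
  have a1 : AcC κ γ1 fW := act_wk hw1
  have a2 : AcC κ γ2 (fV v) := act_wk_add hw2
  have ax : AcC κ (xAut : MulAut (PQ K)) fX := AcC.of_fX act_x
  have axi : AcC κ (xAut : MulAut (PQ K))⁻¹ fXi := ax.inv fXi_fX
  rcases hact with ⟨hv4, hact⟩ | ⟨hv4, hact⟩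
  · have hvv : v * star v = 1 := by
      rw [star3 hK h]
      linear_combination hv4
    have hγ : γ1 * (xAut * (γ2 * (xAut⁻¹ * (γ1 * (xAut * γ2))))) ∈ Γ :=
      mul_mem hγ1 (mul_mem hx (mul_mem hγ2 (mul_mem (inv_mem hx) (mul_mem hγ1 (mul_mem hx hγ2)))))
    have hac : AcC κ (γ1 * (xAut * (γ2 * (xAut⁻¹ * (γ1 * (xAut * γ2)))))) (fR1 v) :=
      (a1.mul (ax.mul (a2.mul (axi.mul (a1.mul (ax.mul a2)))))).congr (word1 h3 hvv)
    have hn := normAut_of_conj hK h hP.ti hγ hac (fR1i_fR1 hvv) (Or.inl (fR1_fX v))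
    obtain ⟨d, hd, τ', hτ', hst⟩ := exists_tor hG hK hP hγ hn hac (s := v) (l := 1) hv0 (fun r b => rfl)
      (fun b => by simp [fR1])
    refine mem_of_act hK h hT hd hα hτ' (fun x => ?_)
    rw [hact, actK, hst]
    ring
  · have hvv : v * star v = -1 := by
      rw [star3 hK h]
      linear_combination hv4
    have hγ : γ1 * (γ2 * γ1) ∈ Γ := mul_mem hγ1 (mul_mem hγ2 hγ1)
    have hac : AcC κ (γ1 * (γ2 * γ1)) (fR2 v) := (a1.mul (a2.mul a1)).congr (word2 hvv)
    have hn := normAut_of_conj hK h hP.ti hγ hac (fR2i_fR2 hvv) (Or.inr (fR2_fX v))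
    obtain ⟨d, hd, τ', hτ', hst⟩ := exists_tor hG hK hP hγ hn hac (s := -v) (l := -1) (neg_ne_zero.2 hv0)
      (fun r b => by simp [fR2]) (fun b => by simp [fR2])
    refine mem_of_act hK h hT hd hα hτ' (fun x => ?_)
    rw [hact, actK, hst, star_neg, inv_neg]
    ring

end Cfsg.Agent.H575.P4
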