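import Cfsg.Agent.H575.P4.Act

/-!
# S5210, `q = 3`: automorphisms of `Q` trivial on `Q/Z` are inner (helper575)
-/

set_option autoImplicit false
set_option linter.unusedSectionVars false

namespace Cfsg.Agent.H575.P4

open Cfsg Cfsg.FusionSystem Cfsg.Agent.H776.P4
open Cfsg.Agent.H756.PU (HypK NormAut TIAut)

universe u

variable {K : Type u} [Field K] [StarRing K]

section field

variable {p n : ℕ}

theorem p_eq {p n : ℕ} (hp : p.Prime) (h : p ^ n = 3) : p = 3 := by
  have hn : n ≠ 0 := by
    rintro rfl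
    simp at h
  have h1 : p ∣ 3 := h ▸ dvd_pow_self p hn
  exact (Nat.prime_dvd_prime_iff_eq hp Nat.prime_three).1 h1

theorem char3 (hK : HypK K p n) (h : p ^ n = 3) : (3 : K) = 0 := by
  have hp := p_eq hK.pp h
  have := hK.char
  have := CharP.cast_eq_zero K p
  rw [hp] at this
  exact_mod_cast this

theorem star3 (hK : HypK K p n) (h : p ^ n = 3) (x : K) : star x = x ^ 3 := by
  rw [hK.star_eq, h]

theorem pow9 (hK : HypK K p n) (h : p ^ n = 3) (x : K) : x ^ 9 = x := by
  have h1 : star (star x) = x := star_star x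
  rw [star3 hK h, star3 hK h, ← pow_mul] at h1
  exact h1

theorem pow8 (hK : HypK K p n) (h : p ^ n = 3) (x : K) (hx : x ≠ 0) : x ^ 8 = 1 := by
  have h1 := pow9 hK h x
  have h2 : x * (x ^ 8 - 1) = 0 := by
    linear_combination h1
  rcases mul_eq_zero.1 h2 with h3 | h3
  · exact absurd h3 hx
  · exact sub_eq_zero.1 h3

theorem exists_iota (hK : HypK K p n) (h : p ^ n = 3) : ∃ ι : K, ι * ι = -1 := by
  classical
  have := hK.fin
  let _ : Fintype K := Fintype.ofFinite K
  have hc : Fintype.card K = 9 := by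
    rw [← Nat.card_eq_fintype_card, hK.card, h]
    norm_num
  have h1 : IsSquare (-1 : K) := by
    rw [FiniteField.isSquare_neg_one_iff, hc]
    norm_num
  obtain ⟨ι, hι⟩ := h1
  exact ⟨ι, hι.symm⟩

theorem self_cases (hK : HypK K p n) (h : p ^ n = 3) (x : K) (hx : star x = x) : x = 0 ∨ x = 1 ∨ x = -1 := by
  rw [star3 hK h] at hx
  have h2 : x * ((x - 1) * (x + 1)) = 0 := by
    linear_combination hx
  rcases mul_eq_zero.1 h2 with h3 | h3
  · exact Or.inl h3
  · rcases mul_eq_zero.1 h3 with h4 | h4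
    · exact Or.inr (Or.inl (sub_eq_zero.1 h4))
    · exact Or.inr (Or.inr (eq_neg_of_add_eq_zero_left h4))

/-- additive maps `K → k` are traces -/
theorem trace_form (hK : HypK K p n) (h : p ^ n = 3) (φ : K → K) (hadd : ∀ x y, φ (x + y) = φ x + φ y)
    (hst : ∀ x, star (φ x) = φ x) : ∃ w : K, ∀ x, φ x = w * star x + star w * x := by
  obtain ⟨ι, hι⟩ := exists_iota hK h
  have h3 := char3 hK h
  have hsι : star ι = - ι := by
    rw [star3 hK h]
    linear_combination ι * hι
  have h0 : φ 0 = 0 := by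
    have := hadd 0 0
    rw [add_zero] at this
    linear_combination - this
  have hneg : ∀ x, φ (-x) = - φ x := by
    intro x
    have := hadd x (-x)
    rw [add_neg_cancel, h0] at this
    linear_combination - this
  have hsm : ∀ m x : K, star m = m → φ (m * x) = m * φ x := by
    intro m x hm
    rcases self_cases hK h m hm with rfl | rfl | rfl
    · rw [zero_mul, h0, zero_mul]
    · rw [one_mul, one_mul]
    · rw [neg_one_mul, hneg, neg_one_mul]
  refine ⟨- φ 1 - ι * φ ι, fun x => ?_⟩
  have hx : x = -(x + star x) * 1 + (ι * (x - star x)) * ι := by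
    linear_combination - (x - star x) * hι + x * h3
  have hm : star (-(x + star x)) = -(x + star x) := by
    rw [star_neg, star_add, star_star]
    ring
  have hn : star (ι * (x - star x)) = ι * (x - star x) := by
    rw [star_mul', star_sub, star_star, hsι]
    ring
  have hw : star (- φ 1 - ι * φ ι) = - φ 1 + ι * φ ι := by
    rw [star_sub, star_neg, star_mul', hst, hst, hsι]
    ring
  rw [hw]
  conv_lhs => rw [hx]
  rw [hadd, hsm _ _ hm, hsm _ _ hn]
  ring

end field

/-- `(0; a, 0, 0)` -/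
def qz (a : K) (ha : star a = a) : PQ K := ⟨⟨0, a, 0, 0, ha, star_zero K⟩, rfl⟩

/-- `(0; 0, b, 0)` -/
def qb (b : K) : PQ K := ⟨⟨0, 0, b, 0, star_zero K, star_zero K⟩, rfl⟩

/-- `(r; 0, 0, 0)` -/
def qr (r : K) : PQ K := ⟨⟨r, 0, 0, 0, star_zero K, star_zero K⟩, rfl⟩

theorem qb_add (b b' : K) : qb (b + b') = qb b * qb b' := by
  apply Subtype.ext
  rw [Subgroup.coe_mul]
  ext <;> simp [qb, PG.mul_a, PG.mul_b]

theorem qr_add (b b' : K) : qr (b + b') = qr b * qr b' := by
  apply Subtype.ext
  rw [Subgroup.coe_mul]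
  ext <;> simp [qr, PG.mul_a, PG.mul_b]

theorem q_dec (e : PQ K) : e = qz (e : PG K).a (e : PG K).ha * qb (e : PG K).b * qr (e : PG K).r := by
  have he : (e : PG K).c = 0 := e.2
  apply Subtype.ext
  rw [Subgroup.coe_mul, Subgroup.coe_mul]
  ext <;> simp [qr, qb, qz, PG.mul_a, PG.mul_b, he]

theorem qr_comm (r b : K) : qr r * qb b =
    qz (r * star b + star r * b) (by simp only [star_add, star_mul', star_star]; ring) * (qb b * qr r) := by
  apply Subtype.ext
  simp only [Subgroup.coe_mul]
  ext <;> simp [qr, qb, qz, PG.mul_a, PG.mul_b]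

/-- an automorphism of `Q` which is trivial on `Q/Z` is inner -/
theorem mem_of_trivial {p n : ℕ} (hK : HypK K p n) (h : p ^ n = 3) {δ : MulAut (PQ K)} (hδ : Act δ id) :
    δ ∈ autInducedBy (⊤ : Subgroup (PG K)) (PQ K) := by
  have h3 := char3 hK h
  have hr : ∀ e : PQ K, ((δ e : PQ K) : PG K).r = (e : PG K).r := fun e => congrArg Prod.fst (hδ e)
  have hb : ∀ e : PQ K, ((δ e : PQ K) : PG K).b = (e : PG K).b := fun e => congrArg Prod.snd (hδ e)
  have hc : ∀ e : PQ K, (e : PG K).c = 0 := fun e => e.2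
  set φ : PQ K → K := fun e => ((δ e : PQ K) : PG K).a - (e : PG K).a with hφ
  have hadd : ∀ e f, φ (e * f) = φ e + φ f := by
    intro e f
    simp only [hφ, map_mul, Subgroup.coe_mul, PG.mul_a, hr, hb, hc]
    ring
  have hsta : ∀ e, star (φ e) = φ e := by
    intro e
    simp only [hφ, star_sub, PG.ha]
  have hz : ∀ a ha, φ (qz a ha) = 0 := by
    intro a ha
    have h1 := qr_comm (1 : K) (-a)
    have h2 := congrArg φ h1
    rw [hadd, hadd, hadd] at h2
    have h4 : qz ((1 : K) * star (-a) + star (1 : K) * (-a)) (by simp only [star_add, star_mul', star_star, star_neg, star_one]; ring) = qz a ha := by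
      apply Subtype.ext
      ext
      · rfl
      · simp only [qz, star_neg, ha, star_one]
        linear_combination - a * h3
      · rfl
      · rfl
    rw [h4] at h2
    linear_combination - h2
  obtain ⟨w1, hw1⟩ := trace_form hK h (fun r => φ (qr r)) (fun x y => by rw [qr_add, hadd]) (fun x => hsta _)
  obtain ⟨w2, hw2⟩ := trace_form hK h (fun r => φ (qb r)) (fun x y => by rw [qb_add, hadd]) (fun x => hsta _)
  refine Subgroup.subset_closure ⟨⟨w2, 0, - w1, 0, star_zero K, star_zero K⟩, Subgroup.mem_top _, fun e => ?_⟩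
  have he : φ e = w1 * star (e : PG K).r + star w1 * (e : PG K).r + (w2 * star (e : PG K).b + star w2 * (e : PG K).b) := by
    conv_lhs => rw [q_dec e]
    rw [hadd, hadd, hz, hw1, hw2]
    ring
  ext
  · rw [hr]; simp
  · have : ((δ e : PQ K) : PG K).a = (e : PG K).a + φ e := by simp only [hφ]; ring
    rw [this, he]
    simp only [PG.mul_a, PG.mul_b, PG.inv_a, PG.inv_b, PG.mul_r, PG.inv_r, PG.mul_c, PG.inv_c, hc, star_neg, star_add,
      star_mul', star_zero]
    ring
  · rw [hb]
    simp only [PG.mul_b, PG.inv_b, PG.mul_r, PG.inv_r, PG.mul_c, PG.inv_c, hc]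
    ring
  · simp [hc]

theorem xAut_not_inn : (xAut : MulAut (PQ K)) ∉ Inn (PQ K) := by
  rintro ⟨e, he⟩
  have h1 := act_x (qr (1 : K))
  rw [← he] at h1
  have h2 := congrArg Prod.snd h1
  have hc : (e : PG K).c = 0 := e.2
  simp [fX, qr, PG.mul_b, PG.inv_b, hc] at h2

end Cfsg.Agent.H575.P4
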